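import Groth.Agent.ZetaEuler.Closed
import Groth.Agent.MonoEndo.Int
import Groth.Agent.UnibranchEtale.PurelyInsep
import Groth.Agent.SmoothStrat.Piece
import Groth.Agent.SmoothStrat.CompSemi
import Groth.Agent.RedSepLib.Basic
import Groth.Agent.HensLine.Stages
import Groth.Agent.S0566
import Groth.Agent.S9675
import Groth.Agent.S9690
import Groth.Agent.S2351
import Groth.Agent.S9812
import Groth.Agent.S9688
import Groth.Agent.S4448
import Groth.Agent.ConsEngine.Core
import Groth.Agent.Nagata.Local

/-! Radicial endomorphisms of schemes of finite type over the integers are bijective and finite. -/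

set_option autoImplicit false
set_option linter.style.haveILetI false
set_option backward.isDefEq.respectTransparency false
universe u
open CategoryTheory CategoryTheory.Limits AlgebraicGeometry TopologicalSpace IsLocalRing

noncomputable section

namespace Groth.Agent.RadEndo

theorem isSeparated_of_universallyInjective {X Y : Scheme.{u}} (f : X ⟶ Y) [UniversallyInjective f] : IsSeparated f := by
  refine ⟨IsClosedImmersion.of_isPreimmersion _ ?_⟩
  have h := (UniversallyInjective.iff_diagonal f).1 inferInstance
  rw [Set.range_eq_univ.2 h.surj]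
  exact isClosed_univ

theorem universallyInjective_of_comp {X Y Z : Scheme.{u}} (f : X ⟶ Y) (g : Y ⟶ Z) [h : UniversallyInjective (f ≫ g)] :
    UniversallyInjective f := by
  rw [(tfae_universallyInjective _).out 0 1 rfl rfl] at h ⊢
  intro K _ a b e
  exact h K (by simp only [← Category.assoc] at *; rw [e])

theorem universallyInjective_of_comp_surjective {X Y Z : Scheme.{u}} (f : X ⟶ Y) (g : Y ⟶ Z)
    [UniversallyInjective (f ≫ g)] [Surjective f] : UniversallyInjective g := by
  rw [UniversallyInjective.iff_diagonal]
  have hd := (UniversallyInjective.iff_diagonal (f ≫ g)).1 inferInstance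
  let m : pullback (f ≫ g) (f ≫ g) ⟶ pullback g g := pullback.map _ _ _ _ f f (𝟙 _) (by simp) (by simp)
  haveI : Surjective m := MorphismProperty.pullbackMap (P := @Surjective) inferInstance inferInstance rfl rfl
  have he : pullback.diagonal (f ≫ g) ≫ m = f ≫ pullback.diagonal g := by
    apply pullback.hom_ext <;> simp [m]
  haveI : Surjective (pullback.diagonal (f ≫ g) ≫ m) := inferInstance
  rw [he] at this
  exact Surjective.of_comp f _

/-- A field extension whose spectrum map is radicial is purely inseparable. -/
theorem isPurelyInseparable_of_spec {K L : Type u} [Field K] [Field L] (φ : K →+* L)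
    [h : UniversallyInjective (Spec.map (CommRingCat.ofHom φ))] : φ.IsPurelyInseparable := by
  rw [(tfae_universallyInjective _).out 0 1 rfl rfl] at h
  algebraize [φ]
  rw [RingHom.IsPurelyInseparable, isPurelyInseparable_iff_subsingleton_emb, subsingleton_iff]
  intro σ₁ σ₂
  apply AlgHom.coe_ringHom_injective
  have e := h (AlgebraicClosure L) (a₁ := Spec.map (CommRingCat.ofHom σ₁.toRingHom)) (a₂ := Spec.map (CommRingCat.ofHom σ₂.toRingHom)) (by
    show Spec.map _ ≫ Spec.map _ = Spec.map _ ≫ Spec.map _
    rw [← Spec.map_comp, ← Spec.map_comp, ← CommRingCat.ofHom_comp, ← CommRingCat.ofHom_comp]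
    refine congrArg Spec.map (congrArg CommRingCat.ofHom (RingHom.ext fun a => ?_))
    exact (σ₁.commutes a).trans (σ₂.commutes a).symm)
  exact congrArg CommRingCat.Hom.hom (Spec.map_injective e)

/-- Normalisation of an integral geometrically unibranch scheme at a radicial generic point is radicial. -/
theorem radicial_fromNormalization {N : Scheme.{u}} [IsIntegral N]
    (hN : ∀ x : N, CAlg2.IsGeomUnibranch (N.presheaf.stalk x)) {L : Type u} [Field L]
    (g : Spec (CommRingCat.of L) ⟶ N) [QuasiCompact g] [QuasiSeparated g] [UniversallyInjective g]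
    (hg : g (closedPoint L) = genericPoint N) : FlatMor.IsUnivHomeo g.fromNormalization := by
  haveI : IsLocalRing (CommRingCat.of L) := inferInstanceAs (IsLocalRing L)
  obtain ⟨⟨x, φ, hφl⟩, he⟩ := (SpecToEquivOfLocalRing N (CommRingCat.of L)).symm.surjective g
  have hgeq : g = Spec.map φ ≫ N.fromSpecStalk x := he.symm
  subst hgeq
  obtain rfl : x = genericPoint N := by
    rw [Scheme.Hom.comp_apply] at hg
    have e : Spec.map φ (closedPoint L) = closedPoint (N.presheaf.stalk x) := by
      haveI := hφl
      exact comap_closedPoint φ.hom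
    rwa [e, Scheme.fromSpecStalk_closedPoint] at hg
  haveI : UniversallyInjective (Spec.map φ ≫ N.fromSpecStalk (genericPoint N)) := ‹UniversallyInjective _›
  haveI := universallyInjective_of_comp (Spec.map φ) (N.fromSpecStalk (genericPoint N))
  haveI : UniversallyInjective (Spec.map (CommRingCat.ofHom φ.hom)) := this
  exact UnibranchEtale.isUnivHomeo_fromNormalization (X := N) φ.hom _ hN rfl (isPurelyInseparable_of_spec (K := N.functionField) (L := L) φ.hom)

variable {Y : Scheme.{u}} (p : Y ⟶ Spec (CommRingCat.of (ULift.{u} ℤ))) [LocallyOfFiniteType p] [QuasiCompact p]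
  (g : Y ⟶ Y) [UniversallyInjective g]

include p in
/-- A radicial endomorphism over the integers is surjective. -/
theorem surjective_of_radicial : Surjective g := by
  haveI := Groth.Agent.MultT.isJacobsonRing_int
  haveI : IsJacobsonRing (ULift.{u} ℤ) := isJacobsonRing_of_surjective
    ⟨(ULift.ringEquiv (R := ℤ)).symm.toRingHom, (ULift.ringEquiv (R := ℤ)).symm.surjective⟩
  haveI : IsNoetherianRing (ULift.{u} ℤ) := isNoetherianRing_of_ringEquiv ℤ ULift.ringEquiv.symm
  haveI : IsLocallyNoetherian Y := LocallyOfFiniteType.isLocallyNoetherian p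
  haveI : CompactSpace Y := (quasiCompact_iff_compactSpace p).mp inferInstance
  haveI : IsNoetherian Y := { __ := (inferInstance : IsLocallyNoetherian Y) }
  haveI : JacobsonSpace Y := LocallyOfFiniteType.jacobsonSpace p
  have hgp : g ≫ p = p := specULiftZIsTerminal.hom_ext _ _
  haveI : LocallyOfFiniteType (g ≫ p) := by rw [hgp]; infer_instance
  haveI : LocallyOfFiniteType g := locallyOfFiniteType_of_comp g p
  haveI : LocallyOfFinitePresentation g := Groth.Agent.ConsEngine.lfp_of_lft g
  haveI : QuasiCompact g := quasiCompact_of_noetherianSpace_source g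
  have hclosed : ∀ z : Y, IsClosed ({z} : Set Y) → z ∈ Set.range g := fun z hz => by
    haveI : Finite (Y.residueField z) := Groth.Agent.ZetaEuler.finite_residueField p hz
    haveI := Groth.Agent.MonoEndo.finite_points p (Y.residueField z)
    have hinj : Function.Injective fun s : Spec (CommRingCat.of (Y.residueField z)) ⟶ Y => s ≫ g :=
      (((tfae_universallyInjective g).out 0 1 rfl rfl).1 inferInstance) (Y.residueField z)
    obtain ⟨s, hs⟩ := Finite.injective_iff_surjective.1 hinj (Y.fromSpecResidueField z)
    exact ⟨s (closedPoint (Y.residueField z)), by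
      rw [← Scheme.Hom.comp_apply, show s ≫ g = Y.fromSpecResidueField z from hs]; exact Scheme.fromSpecResidueField_apply z _⟩
  refine ⟨fun y => ?_⟩
  by_contra hy
  have hC : Topology.IsConstructible (Set.range g)ᶜ :=
    (Set.image_univ ▸ g.isConstructible_image Topology.IsConstructible.univ).compl
  have : ∀ {s : Set Y}, Topology.IsConstructible s → s.Nonempty → (s ∩ closedPoints Y).Nonempty := by
    intro s hs hne
    induction s, hs using BooleanSubalgebra.closure_sdiff_sup_induction with
    | isSublattice =>
      exact ⟨fun a ha b hb ↦ ⟨ha.1.union hb.1, ha.2.union hb.2⟩,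
        fun a ha b hb ↦ ⟨ha.1.inter hb.1, ha.2.inter_isOpen hb.2 hb.1⟩⟩
    | bot_mem => exact ⟨isOpen_empty, .empty⟩
    | top_mem => exact ⟨isOpen_univ, .univ⟩
    | sdiff U hU V hV =>
      exact nonempty_inter_closedPoints hne (hU.1.isLocallyClosed.inter hV.1.isClosed_compl.isLocallyClosed)
    | sup a ha b hb iha ihb =>
      rcases hne with ⟨w, hw | hw⟩
      · exact (iha ⟨w, hw⟩).mono (Set.inter_subset_inter_left _ Set.subset_union_left)
      · exact (ihb ⟨w, hw⟩).mono (Set.inter_subset_inter_left _ Set.subset_union_right)
  obtain ⟨z, hz, hzc⟩ := this hC ⟨y, fun ⟨x, hx⟩ => hy ⟨x, hx⟩⟩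
  exact hz (hclosed z hzc)

include p in
theorem isNagata_affine (U : Y.affineOpens) : CAlg.IsNagata Γ(Y, U) := by
  have h : (p.appLE ⊤ U le_top).hom.FiniteType :=
    HasRingHomProperty.appLE (P := @LocallyOfFiniteType) p inferInstance ⟨⊤, isAffineOpen_top _⟩ U le_top
  let φ : ULift.{u} ℤ →+* Γ(Y, U) := (p.appLE ⊤ U le_top).hom.comp
    (Scheme.ΓSpecIso (CommRingCat.of (ULift.{u} ℤ))).inv.hom
  letI := φ.toAlgebra
  haveI : Algebra.FiniteType (ULift.{u} ℤ) Γ(Y, U) := RingHom.finiteType_algebraMap.1
    (h.comp (RingHom.FiniteType.of_surjective _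
      (Scheme.ΓSpecIso (CommRingCat.of (ULift.{u} ℤ))).symm.commRingCatIsoToRingEquiv.surjective))
  exact Groth.Agent.S0566.result _ Groth.Agent.HensLine.isNagata_int _

omit [UniversallyInjective g] in
include p in
theorem isFinite_of_radicial_normal [IsIntegral Y] [LocallyOfFiniteType g] [IsSeparated g] [LocallyQuasiFinite g]
    (hY : ∀ x : Y, IsIntegrallyClosed (Y.presheaf.stalk x)) (hgen : g (genericPoint Y) = genericPoint Y)
    [UniversallyInjective (Y.fromSpecResidueField (genericPoint Y) ≫ g)] : IsFinite g := by
  haveI : IsNoetherianRing (ULift.{u} ℤ) := isNoetherianRing_of_ringEquiv ℤ ULift.ringEquiv.symm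
  haveI : IsLocallyNoetherian Y := LocallyOfFiniteType.isLocallyNoetherian p
  haveI : CompactSpace Y := (quasiCompact_iff_compactSpace p).mp inferInstance
  haveI : IsNoetherian Y := { __ := (inferInstance : IsLocallyNoetherian Y) }
  haveI : QuasiCompact g := quasiCompact_of_noetherianSpace_source g
  let L := Y.residueField (genericPoint Y)
  let η := Y.fromSpecResidueField (genericPoint Y)
  let gη : Spec (CommRingCat.of L) ⟶ Y := η ≫ g
  haveI : UniversallyInjective gη := ‹UniversallyInjective (Y.fromSpecResidueField (genericPoint Y) ≫ g)›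
  haveI : NoetherianSpace ↥(Spec (CommRingCat.of L)) := inferInstanceAs (NoetherianSpace (PrimeSpectrum L))
  haveI : QuasiCompact gη := quasiCompact_of_noetherianSpace_source gη
  have hη : gη (closedPoint L) = genericPoint Y := by
    exact (Scheme.Hom.comp_apply _ _ _).trans ((congrArg g (Scheme.fromSpecResidueField_apply _ _)).trans hgen)
  have hM := radicial_fromNormalization
    (fun x => haveI := hY x; Groth.Agent.S9812.result (Y.presheaf.stalk x)) (L := L) gη hη
  obtain ⟨-, hMinj, hMsurj⟩ := (WeakNorm.isUnivHomeo_iff _).1 hM
  let b := gη.normalizationDesc (η ≫ g.toNormalization) g.fromNormalization (by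
    rw [Category.assoc, g.toNormalization_fromNormalization])
  have hbc : b ≫ g.fromNormalization = gη.fromNormalization := Scheme.Hom.normalizationDesc_comp _ _ _ _
  haveI : Surjective b := by
    refine ⟨fun x => ?_⟩
    have hd : DenseRange (η ≫ g.toNormalization) := by
      refine (g.toNormalization.denseRange).comp ?_ g.toNormalization.continuous
      rw [DenseRange, dense_iff_closure_eq]
      refine Set.eq_univ_of_univ_subset ?_
      rw [← (genericPoint_spec Y).def]
      exact closure_mono (Set.singleton_subset_iff.2 ⟨closedPoint L, Scheme.fromSpecResidueField_apply _ _⟩)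
    have hsub : Set.range (η ≫ g.toNormalization) ⊆ Set.range b := by
      rintro _ ⟨l, rfl⟩
      exact ⟨gη.toNormalization l,
        (Scheme.Hom.comp_apply _ _ _).symm.trans (congrArg (fun φ : _ ⟶ g.normalization => φ l)
          (Scheme.Hom.toNormalization_normalizationDesc gη _ _ _))⟩
    exact (b.isClosedMap.isClosed_range.closure_subset_iff.2 hsub) (hd x)
  haveI : UniversallyInjective (b ≫ g.fromNormalization) := by rw [hbc]; exact hMinj
  haveI := universallyInjective_of_comp_surjective b g.fromNormalization
  haveI : UniversallyInjective g := g.toNormalization_fromNormalization ▸ MorphismProperty.comp_mem (W := @UniversallyInjective) g.toNormalization g.fromNormalization inferInstance inferInstance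
  haveI := surjective_of_radicial p g
  haveI : IsOpenImmersion g.toNormalization := inferInstance
  haveI : Surjective g.toNormalization := ⟨fun x => by
    obtain ⟨y, hy⟩ := g.surjective (g.fromNormalization x)
    refine ⟨y, g.fromNormalization.injective ?_⟩
    rw [← Scheme.Hom.comp_apply, g.toNormalization_fromNormalization, hy]⟩
  haveI : IsIso g.toNormalization := (isIso_iff_isOpenImmersion_and_surjective _).2 ⟨inferInstance, inferInstance⟩
  haveI : IsFinite g.fromNormalization := Groth.Agent.S9675.result g (isNagata_affine p)
  rw [← g.toNormalization_fromNormalization]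
  infer_instance

include p in
theorem isFinite_of_radicial_integral [IsIntegral Y] : IsFinite g := by
  haveI : IsNoetherianRing (ULift.{u} ℤ) := isNoetherianRing_of_ringEquiv ℤ ULift.ringEquiv.symm
  haveI : IsLocallyNoetherian Y := LocallyOfFiniteType.isLocallyNoetherian p
  haveI : CompactSpace Y := (quasiCompact_iff_compactSpace p).mp inferInstance
  haveI : IsNoetherian Y := { __ := (inferInstance : IsLocallyNoetherian Y) }
  have hgp : g ≫ p = p := specULiftZIsTerminal.hom_ext _ _
  haveI : LocallyOfFiniteType (g ≫ p) := by rw [hgp]; infer_instance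
  haveI : LocallyOfFiniteType g := locallyOfFiniteType_of_comp g p
  haveI : QuasiCompact g := quasiCompact_of_noetherianSpace_source g
  haveI := isSeparated_of_universallyInjective g
  haveI := surjective_of_radicial p g
  haveI : LocallyQuasiFinite g := LocallyQuasiFinite.of_injective g.injective
  let η := Y.fromSpecStalk (genericPoint Y)
  haveI : CompactSpace ↥(Spec (Y.presheaf.stalk (genericPoint Y))) := inferInstance
  haveI : QuasiCompact η := quasiCompact_of_noetherianSpace_source η
  let ν := Curv2.normalizationι Y
  obtain ⟨hNint, hNnor, hνs, hνgen, -⟩ := Groth.Agent.S2351.result Y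
  haveI := hNint
  haveI : Surjective ν := hνs
  haveI : IsFinite ν := by
    show IsFinite η.fromNormalization
    exact (Groth.Agent.S9688.result Y) fun U hU hne => by
      haveI := hne
      haveI : IsDomain Γ(Y, U) := @IsIntegral.component_integral Y _ U hne
      exact Nagata.isN2_of_isNagata (isNagata_affine p ⟨U, hU⟩)
  have hdom : ∀ z : ↥(Curv2.normalization Y), closure {z} ∈ irreducibleComponents ↥(Curv2.normalization Y) →
      (ν ≫ g).base z = genericPoint Y := fun z hz => by
    have hz' : z = genericPoint (Curv2.normalization Y) := by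
      rw [irreducibleComponents_eq_singleton, Set.mem_singleton_iff] at hz
      exact (show IsGenericPoint z Set.univ from hz).eq (genericPoint_spec _)
    show (ν ≫ g) z = _
    rw [Scheme.Hom.comp_apply, hz', show ν (genericPoint _) = genericPoint Y from hνgen]
    exact ((genericPoint_spec Y).image g.continuous).eq (by
      rw [Set.image_univ, Set.range_eq_univ.2 g.surjective, closure_univ]; exact genericPoint_spec Y)
  obtain ⟨H, hH, -⟩ := Groth.Agent.S9690.result Y (ν ≫ g) hNnor hdom
  haveI : LocallyOfFiniteType (H ≫ ν) := by rw [hH]; infer_instance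
  haveI : IsSeparated (H ≫ ν) := by rw [hH]; infer_instance
  haveI : LocallyQuasiFinite (H ≫ ν) := by rw [hH]; infer_instance
  haveI : LocallyOfFiniteType H := locallyOfFiniteType_of_comp H ν
  haveI : IsSeparated H := IsSeparated.of_comp H ν
  haveI : LocallyQuasiFinite H := LocallyQuasiFinite.of_comp H ν
  let ξ := genericPoint (Curv2.normalization Y)
  have hHgen : H ξ = ξ := by
    have h1 : ν (H ξ) = genericPoint Y := by
      rw [← Scheme.Hom.comp_apply, hH]
      exact hdom _ (by rw [(genericPoint_spec _).def, irreducibleComponents_eq_singleton]; rfl)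
    have h2 : ν ⁻¹' {genericPoint Y} = {ξ} :=
      (Groth.Agent.S4448.result Y Y.functionField (RingHom.id _) η (by
        rw [show CommRingCat.ofHom (RingHom.id Y.functionField) = 𝟙 _ from rfl, Spec.map_id, Category.id_comp])).choose_spec.2.1
    exact h2.le h1
  haveI : UniversallyInjective ((Curv2.normalization Y).fromSpecResidueField ξ ≫ H) := by
    obtain ⟨_, _, _, hgen', hbij⟩ := Groth.Agent.S2351.result Y
    haveI : IsIso (ν.residueFieldMap ξ) := (ConcreteCategory.isIso_iff_bijective _).2 hbij
    haveI : Mono ((Curv2.normalization Y).fromSpecResidueField ξ ≫ ν) := by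
      rw [← ν.SpecMap_residueFieldMap_fromSpecResidueField]; infer_instance
    haveI : UniversallyInjective (((Curv2.normalization Y).fromSpecResidueField ξ ≫ H) ≫ ν) := by
      rw [Category.assoc, hH, ← Category.assoc]
      exact MorphismProperty.comp_mem (W := @UniversallyInjective) _ g inferInstance inferInstance
    exact universallyInjective_of_comp _ ν
  have hfin : IsFinite H := isFinite_of_radicial_normal (ν ≫ p) H (fun x => (hNnor x).2) hHgen
  haveI : IsFinite (ν ≫ g) := by rw [← hH]; infer_instance
  haveI : UniversallyClosed g := UniversallyClosed.of_comp_surjective ν g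
  exact (IsFinite.iff_isProper_and_locallyQuasiFinite g).2 ⟨{ }, inferInstance⟩

end Groth.Agent.RadEndo
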