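import Groth.Agent.RadEndo.Int
import Groth.Agent.LimModel.FgSubalgebra
import Groth.Agent.LimDesc.Descend
import Groth.Agent.LimMore.Hom

/-! Radicial endomorphisms of schemes of finite presentation are bijective and finite. -/

set_option autoImplicit false
set_option linter.style.haveILetI false
set_option backward.isDefEq.respectTransparency false
universe u
open CategoryTheory CategoryTheory.Limits AlgebraicGeometry TopologicalSpace IsLocalRing

noncomputable section

namespace Groth.Agent.RadEndo

/-- Universal closedness along a finite closed cover of the source. -/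
theorem universallyClosed_of_finite_cover {X Y : Scheme.{u}} (f : X ⟶ Y) {I : Type*} [Finite I] (Z : I → Scheme.{u})
    (ι : ∀ i, Z i ⟶ X) [∀ i, IsClosedImmersion (ι i)] (hcov : ∀ x, ∃ i, x ∈ Set.range (ι i))
    (h : ∀ i, UniversallyClosed (ι i ≫ f)) : UniversallyClosed f := by
  constructor
  intro X' Y' i₁ i₂ f' H C hC
  have hx : ∀ x' : X', ∃ i, x' ∈ Set.range (pullback.fst i₁ (ι i)) := fun x' => by
    obtain ⟨i, hi⟩ := hcov (i₁ x')
    exact ⟨i, by rw [Scheme.Pullback.range_fst]; exact hi⟩
  have hC' : f' '' C = ⋃ i, (pullback.fst i₁ (ι i) ≫ f') '' (pullback.fst i₁ (ι i) ⁻¹' C) := by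
    ext y
    constructor
    · rintro ⟨x', hx', rfl⟩
      obtain ⟨i, w, rfl⟩ := hx x'
      exact Set.mem_iUnion.2 ⟨i, w, hx', Scheme.Hom.comp_apply _ _ _⟩
    · intro hy
      obtain ⟨i, w, hw, rfl⟩ := Set.mem_iUnion.1 hy
      exact ⟨_, hw, (Scheme.Hom.comp_apply _ _ _).symm⟩
  rw [hC']
  exact isClosed_iUnion_of_finite fun i =>
    (h i).universally_isClosedMap _ _ _ ((IsPullback.of_hasPullback i₁ (ι i)).paste_horiz H) _
      (hC.preimage (pullback.fst i₁ (ι i)).continuous)

/-- iterates of an endomorphism -/
def iter {X : Scheme.{u}} (g : X ⟶ X) : ℕ → (X ⟶ X)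
  | 0 => 𝟙 X
  | n + 1 => g ≫ iter g n

theorem iter_apply {X : Scheme.{u}} (g : X ⟶ X) : ∀ (n : ℕ) (x : X), iter g n x = g^[n] x
  | 0, _ => rfl
  | n + 1, x => by rw [iter, Scheme.Hom.comp_apply, iter_apply g n, Function.iterate_succ_apply]

instance universallyInjective_iter {X : Scheme.{u}} (g : X ⟶ X) [UniversallyInjective g] :
    ∀ n : ℕ, UniversallyInjective (iter g n)
  | 0 => MorphismProperty.id_mem (W := @UniversallyInjective) X
  | n + 1 => MorphismProperty.comp_mem (W := @UniversallyInjective) g (iter g n) inferInstance (universallyInjective_iter g n)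

variable {Y : Scheme.{u}} (p : Y ⟶ Spec (CommRingCat.of (ULift.{u} ℤ))) [LocallyOfFiniteType p] [QuasiCompact p]
  (g : Y ⟶ Y) [UniversallyInjective g]

include p in
theorem universallyClosed_of_fix (hfix : ∀ x ∈ genericPoints ↑Y, g x = x) : UniversallyClosed g := by
  classical
  haveI : IsNoetherianRing (ULift.{u} ℤ) := isNoetherianRing_of_ringEquiv ℤ ULift.ringEquiv.symm
  haveI : IsLocallyNoetherian Y := LocallyOfFiniteType.isLocallyNoetherian p
  haveI : CompactSpace Y := (quasiCompact_iff_compactSpace p).mp inferInstance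
  haveI : IsNoetherian Y := { __ := (inferInstance : IsLocallyNoetherian Y) }
  haveI : Finite ↥(irreducibleComponents ↑Y) := NoetherianSpace.finite_irreducibleComponents.to_subtype
  let W : ↥(irreducibleComponents ↑Y) → Closeds ↑Y := fun T => ⟨T.1, isClosed_of_mem_irreducibleComponents _ T.2⟩
  refine universallyClosed_of_finite_cover g (fun T => (Scheme.IdealSheafData.vanishingIdeal (W T)).subscheme)
    (fun T => (Scheme.IdealSheafData.vanishingIdeal (W T)).subschemeι) (fun x => ?_) fun T => ?_
  · obtain ⟨T, hT, hxT⟩ := Set.mem_sUnion.1 ((sUnion_irreducibleComponents (X := ↑Y)).ge (Set.mem_univ x))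
    exact ⟨⟨T, hT⟩, by rw [Scheme.IdealSheafData.range_subschemeι, SmoothStrat.support_vi]; exact hxT⟩
  let ι := (Scheme.IdealSheafData.vanishingIdeal (W T)).subschemeι
  haveI := DvrDom.isReduced_vanishingIdeal_subscheme (W T)
  have hr : Set.range ι = T.1 := by
    rw [Scheme.IdealSheafData.range_subschemeι, SmoothStrat.support_vi]; rfl
  haveI : IrreducibleSpace ↥(Scheme.IdealSheafData.vanishingIdeal (W T)).subscheme := by
    have hi : IsIrreducible (Set.range ι) := hr.symm ▸ T.2.1
    haveI := Subtype.irreducibleSpace hi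
    let e := ι.isEmbedding.toHomeomorph
    refine e.irreducibleSpace_iff.2 inferInstance
  haveI : IsIntegral (Scheme.IdealSheafData.vanishingIdeal (W T)).subscheme :=
    isIntegral_of_irreducibleSpace_of_isReduced _
  obtain ⟨η, hη⟩ : ∃ η, IsGenericPoint η T.1 :=
    ⟨_, T.2.1.isGenericPoint_genericPoint (isClosed_of_mem_irreducibleComponents _ T.2)⟩
  have hgη : g η = η := hfix η (show closure {η} ∈ irreducibleComponents ↑Y from hη.def.symm ▸ T.2)
  have hsub : Set.range (ι ≫ g) ⊆ Set.range ι := by
    rintro _ ⟨w, rfl⟩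
    rw [hr, Scheme.Hom.comp_apply]
    have : η ⤳ ι w := hη.specializes (hr.le ⟨w, rfl⟩)
    have h2 := this.map g.continuous
    rw [hgη] at h2
    exact hη.mem_closed_set_iff (isClosed_of_mem_irreducibleComponents _ T.2) |>.1
      hη.mem (specializes_iff_mem_closure.1 h2 |> fun h => hη.def ▸ h)
  obtain ⟨gT, hgT⟩ := RedSepLib.exists_lift_of_isReduced (ι ≫ g) ι hsub
  haveI : UniversallyInjective gT := by
    haveI : UniversallyInjective (gT ≫ ι) := by
      rw [hgT]; exact MorphismProperty.comp_mem (W := @UniversallyInjective) ι g inferInstance inferInstance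
    exact universallyInjective_of_comp gT ι
  haveI := isFinite_of_radicial_integral (ι ≫ p) gT
  show UniversallyClosed (ι ≫ g)
  rw [← hgT]
  infer_instance

include p in
/-- Over the integers: bijective and finite. -/
theorem surjective_and_isFinite_int : Surjective g ∧ IsFinite g := by
  classical
  haveI : IsNoetherianRing (ULift.{u} ℤ) := isNoetherianRing_of_ringEquiv ℤ ULift.ringEquiv.symm
  haveI : IsLocallyNoetherian Y := LocallyOfFiniteType.isLocallyNoetherian p
  haveI : CompactSpace Y := (quasiCompact_iff_compactSpace p).mp inferInstance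
  haveI : IsNoetherian Y := { __ := (inferInstance : IsLocallyNoetherian Y) }
  haveI hs := surjective_of_radicial p g
  refine ⟨hs, ?_⟩
  -- generic points are permuted
  have hfin : (genericPoints ↑Y).Finite := genericPoints.finite NoetherianSpace.finite_irreducibleComponents
  have hpre : ∀ x, g x ∈ genericPoints ↑Y → x ∈ genericPoints ↑Y := fun x hx =>
    SmoothStrat.mem_genericPoints_iff.2 fun w hw =>
      g.injective (SmoothStrat.mem_genericPoints_iff.1 hx (g w) (hw.map g.continuous))
  choose σ hσ using fun x : genericPoints ↑Y => g.surjective x.1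
  let σ' : genericPoints ↑Y → genericPoints ↑Y := fun x => ⟨σ x, hpre _ ((hσ x).symm ▸ x.2)⟩
  have hσ' : Function.Injective σ' := fun a b e => by
    apply Subtype.ext
    rw [← hσ a, ← hσ b, show σ a = σ b from congrArg Subtype.val e]
  haveI : Finite (genericPoints ↑Y) := hfin.to_subtype
  let π := Equiv.ofBijective σ' ⟨hσ', Finite.injective_iff_surjective.1 hσ'⟩
  let n := orderOf π
  have hn : 0 < n := orderOf_pos π
  have hit : ∀ (m : ℕ) (x : genericPoints ↑Y), g^[m] ((π ^ m) x).1 = x.1 := by
    intro m
    induction m with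
    | zero => intro x; rfl
    | succ m ih =>
      intro x
      rw [Function.iterate_succ_apply, pow_succ', Equiv.Perm.mul_apply]
      show g^[m] (g (σ ((π ^ m) x))) = x.1
      rw [hσ]; exact ih x
  haveI : UniversallyClosed (iter g n) := universallyClosed_of_fix p (iter g n) fun x hx => by
    rw [iter_apply]
    have := hit n ⟨x, hx⟩
    rwa [show π ^ n = 1 from pow_orderOf_eq_one π] at this
  obtain ⟨m, hm⟩ := Nat.exists_eq_succ_of_ne_zero hn.ne'
  haveI : UniversallyClosed (g ≫ iter g m) := by
    show UniversallyClosed (iter g (m + 1))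
    rw [show m + 1 = n from hm.symm]; infer_instance
  haveI := isSeparated_of_universallyInjective (iter g m)
  haveI := isSeparated_of_universallyInjective g
  haveI : UniversallyClosed g := UniversallyClosed.of_comp_of_isSeparated g (iter g m)
  have hgp : g ≫ p = p := specULiftZIsTerminal.hom_ext _ _
  haveI : LocallyOfFiniteType (g ≫ p) := by rw [hgp]; infer_instance
  haveI : LocallyOfFiniteType g := locallyOfFiniteType_of_comp g p
  haveI : QuasiCompact g := quasiCompact_of_noetherianSpace_source g
  haveI : LocallyQuasiFinite g := LocallyQuasiFinite.of_injective g.injective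
  exact (IsFinite.iff_isProper_and_locallyQuasiFinite g).2 ⟨{ }, inferInstance⟩

open LimDesc

theorem affine {X : Scheme.{u}} {A : Type u} [CommRing A] (f : X ⟶ Spec (CommRingCat.of A))
    [LocallyOfFinitePresentation f] [QuasiCompact f] [QuasiSeparated f] (g : X ⟶ X) (hg : g ≫ f = f)
    [UniversallyInjective g] : Surjective g ∧ IsFinite g := by
  let D := LimModel.fgDiagram A
  let c := LimModel.fgCone A
  let hc := LimModel.fgIsLimit A
  haveI : IsCofiltered (LimModel.FgSub A)ᵒᵖ := isCofiltered_op_of_isFiltered _
  haveI : ∀ i, IsAffine (D.obj i) := fun i => inferInstanceAs (IsAffine (Spec _))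
  haveI : ∀ {i j} (f : i ⟶ j), IsAffineHom (D.map f) := fun f =>
    inferInstanceAs (IsAffineHom ((LimModel.fgDiagram A).map f))
  haveI : ∀ i, CompactSpace (D.obj i) := fun i => inferInstance
  haveI : ∀ i, QuasiSeparatedSpace (D.obj i) := fun i => inferInstance
  let a : X ⟶ c.pt := f
  haveI : LocallyOfFinitePresentation a := ‹LocallyOfFinitePresentation f›
  haveI : QuasiCompact a := ‹QuasiCompact f›
  haveI : QuasiSeparated a := ‹QuasiSeparated f›
  obtain ⟨i, Xi, fi, q, h1, h2, h3, h4⟩ := LimModel.exists_model D c hc (a := a)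
  haveI := h1; haveI := h2; haveI := h3
  have : CompactSpace Xi := QuasiCompact.compactSpace_of_compactSpace fi
  have : QuasiSeparatedSpace Xi := quasiSeparatedSpace_of_quasiSeparated fi
  obtain ⟨j, gj, hgj, hgj'⟩ := LimMore.exists_hom D c hc fi fi h4 h4 g hg
  let fj := toStage D fi j
  have hj := isPullback_proj D fi c h4 j
  haveI : LocallyOfFinitePresentation fj :=
    MorphismProperty.of_isPullback (P := @LocallyOfFinitePresentation) (isPullback_stage D fi j) h1
  haveI : QuasiCompact fj := MorphismProperty.of_isPullback (P := @QuasiCompact) (isPullback_stage D fi j) h2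
  haveI : QuasiSeparated fj := MorphismProperty.of_isPullback (P := @QuasiSeparated) (isPullback_stage D fi j) h3
  have hX : IsPullback (proj D fi c h4 j) g gj (proj D fi c h4 j) := by
    refine IsPullback.of_bot ?_ hgj' hj
    rw [show g ≫ a = a from hg, hgj]
    exact hj
  haveI : LocallyOfFinitePresentation (gj ≫ fj) := by rw [hgj]; infer_instance
  haveI : QuasiCompact (gj ≫ fj) := by rw [hgj]; infer_instance
  haveI : QuasiSeparated (gj ≫ fj) := by rw [hgj]; infer_instance
  obtain ⟨k, hk⟩ := exists_universallyInjective D c hc gj fj hj hX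
  haveI := hk
  let e : stage D fj k ≅ stage D (gj ≫ fj) k := pullback.congrHom hgj.symm rfl
  let u : ↑(CommRingCat.of (ULift.{u} ℤ)) →+* ↥k.left.unop.1 :=
    (Int.castRingHom _).comp ULift.ringEquiv.toRingHom
  have hu0 : (Int.castRingHom ↥k.left.unop.1).FiniteType := by
    rw [← RingHom.ext_int (algebraMap ℤ ↥k.left.unop.1) (Int.castRingHom _)]
    exact RingHom.finiteType_algebraMap.mpr (k.left.unop.1.fg_iff_finiteType.mp k.left.unop.2)
  have hu : u.FiniteType := hu0.comp (RingHom.FiniteType.of_surjective _ ULift.ringEquiv.surjective)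
  let v : D.obj k.left ⟶ Spec (CommRingCat.of (ULift.{u} ℤ)) := Spec.map (CommRingCat.ofHom u)
  haveI : LocallyOfFiniteType v := (HasRingHomProperty.Spec_iff (P := @LocallyOfFiniteType)).2 hu
  haveI : QuasiCompact v := inferInstanceAs (QuasiCompact (Spec.map (CommRingCat.ofHom u)))
  haveI : LocallyOfFiniteType (toStage D fj k) :=
    MorphismProperty.of_isPullback (P := @LocallyOfFiniteType) (isPullback_stage D fj k) inferInstance
  haveI : QuasiCompact (toStage D fj k) :=
    MorphismProperty.of_isPullback (P := @QuasiCompact) (isPullback_stage D fj k) inferInstance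
  haveI : UniversallyInjective (e.hom ≫ stageMap D fj gj k) :=
    MorphismProperty.comp_mem (W := @UniversallyInjective) _ _ inferInstance hk
  obtain ⟨hs, hf⟩ := surjective_and_isFinite_int (toStage D fj k ≫ v) (e.hom ≫ stageMap D fj gj k)
  have hs' : Surjective (stageMap D fj gj k) := (MorphismProperty.cancel_left_of_respectsIso @Surjective e.hom _).1 hs
  have hf' : IsFinite (stageMap D fj gj k) := (MorphismProperty.cancel_left_of_respectsIso @IsFinite e.hom _).1 hf
  exact ⟨MorphismProperty.of_isPullback (P := @Surjective) (isPullback_proj_stageMap D fj c hj gj hX k) hs',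
    MorphismProperty.of_isPullback (P := @IsFinite) (isPullback_proj_stageMap D fj c hj gj hX k) hf'⟩

theorem main {X S : Scheme.{u}} (f : X ⟶ S) [LocallyOfFinitePresentation f] [QuasiCompact f]
    [QuasiSeparated f] (g : X ⟶ X) (hg : g ≫ f = f) [UniversallyInjective g] : Surjective g ∧ IsFinite g := by
  suffices h : ∀ i, Surjective (pullback.snd g (pullback.fst f (S.affineCover.f i))) ∧
      IsFinite (pullback.snd g (pullback.fst f (S.affineCover.f i))) from
    ⟨(IsZariskiLocalAtTarget.iff_of_openCover (P := @Surjective) (S.affineCover.pullback₁ f)).2 fun i => (h i).1,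
      (IsZariskiLocalAtTarget.iff_of_openCover (P := @IsFinite) (S.affineCover.pullback₁ f)).2 fun i => (h i).2⟩
  intro i
  let ρ := S.affineCover.f i
  let W := pullback f ρ
  let w : W ⟶ X := pullback.fst f ρ
  let fW : W ⟶ S.affineCover.X i := pullback.snd f ρ
  let gW : W ⟶ W := pullback.map f ρ f ρ g (𝟙 _) (𝟙 _) (by rw [Category.comp_id, hg]) (by simp)
  have hgW : gW ≫ fW = fW := (pullback.lift_snd _ _ _).trans (Category.comp_id _)
  have hsq : IsPullback w gW g w := by
    refine IsPullback.of_bot ?_ (pullback.lift_fst _ _ _).symm (IsPullback.of_hasPullback f ρ)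
    rw [hgW, hg]
    exact IsPullback.of_hasPullback f ρ
  haveI : UniversallyInjective gW :=
    MorphismProperty.of_isPullback (P := @UniversallyInjective) hsq ‹UniversallyInjective g›
  haveI : LocallyOfFinitePresentation fW := MorphismProperty.pullback_snd _ _ inferInstance
  haveI : QuasiCompact fW := MorphismProperty.pullback_snd _ _ inferInstance
  haveI : QuasiSeparated fW := MorphismProperty.pullback_snd _ _ inferInstance
  haveI : IsAffine (S.affineCover.X i) := inferInstanceAs (IsAffine (Spec _))
  obtain ⟨h1, h2⟩ := affine (A := Γ(S.affineCover.X i, ⊤))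
    (fW ≫ (S.affineCover.X i).isoSpec.hom) gW (by rw [← Category.assoc, hgW])
  show Surjective (pullback.snd g w) ∧ IsFinite (pullback.snd g w)
  rw [← hsq.isoPullback_inv_snd]
  exact ⟨(MorphismProperty.cancel_left_of_respectsIso @Surjective _ _).2 h1,
    (MorphismProperty.cancel_left_of_respectsIso @IsFinite _ _).2 h2⟩

end Groth.Agent.RadEndo
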